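import Mathlib

/-! # The ring `ℤ[F,V]/(FV - q)` modulo a symmetric element -/

set_option autoImplicit false

open MvPolynomial

namespace Groth.Agent.WeilOrdLib

noncomputable section

/-- the defining relation -/
def rel (q : ℤ) : MvPolynomial (Fin 2) ℤ := X 0 * X 1 - C q

/-- the ring `ℤ[F,V]/(FV - q)` -/
abbrev Q (q : ℤ) : Type := MvPolynomial (Fin 2) ℤ ⧸ Ideal.span {rel q}

variable {q : ℤ}

/-- the class of `F` -/
def qF (q : ℤ) : Q q := Ideal.Quotient.mk _ (X 0)

/-- the class of `V` -/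
def qV (q : ℤ) : Q q := Ideal.Quotient.mk _ (X 1)

theorem qF_mul_qV : qF q * qV q = (q : Q q) := by
  have h : Ideal.Quotient.mk (Ideal.span {rel q}) (rel q) = 0 :=
    Ideal.Quotient.eq_zero_iff_mem.2 (Ideal.mem_span_singleton_self _)
  have h' : Ideal.Quotient.mk (Ideal.span {rel q}) (X 0 * X 1 - C q) = 0 := h
  rw [map_sub, map_mul, sub_eq_zero] at h'
  rw [qF, qV, h', eq_intCast, map_intCast]

theorem qF_pow_mul_qV_pow (a : ℕ) : qF q ^ a * qV q ^ a = ((q ^ a : ℤ) : Q q) := by
  rw [← mul_pow, qF_mul_qV, Int.cast_pow]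

/-- `e j` is `F^j` or `V^(-j)` -/
def eb (q : ℤ) (j : ℤ) : Q q := qF q ^ j.toNat * qV q ^ (-j).toNat

theorem eb_mul (a b : ℤ) : ∃ w : ℤ, eb q a * eb q b = w • eb q (a + b) := by
  refine ⟨q ^ (a.toNat + b.toNat - (a + b).toNat), ?_⟩
  set n := a.toNat + b.toNat - (a + b).toNat with hn
  have h1 : a.toNat + b.toNat = n + (a + b).toNat := by omega
  have h2 : (-a).toNat + (-b).toNat = n + (-(a + b)).toNat := by omega
  rw [eb, eb, eb, zsmul_eq_mul, ← qF_pow_mul_qV_pow]
  calc qF q ^ a.toNat * qV q ^ (-a).toNat * (qF q ^ b.toNat * qV q ^ (-b).toNat)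
      = qF q ^ (a.toNat + b.toNat) * qV q ^ ((-a).toNat + (-b).toNat) := by ring
    _ = _ := by rw [h1, h2]; ring

theorem eb_zero : eb q 0 = 1 := by simp [eb]
theorem eb_one : eb q 1 = qF q := by simp [eb]
theorem eb_neg_one : eb q (-1) = qV q := by simp [eb]

theorem mul_mem_span {a : ℤ} {z : Q q} (hz : z ∈ Submodule.span ℤ (Set.range (eb q))) :
    z * eb q a ∈ Submodule.span ℤ (Set.range (eb q)) := by
  induction hz using Submodule.span_induction with
  | mem z hz =>
    obtain ⟨b, rfl⟩ := hz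
    obtain ⟨w, hw⟩ := eb_mul (q := q) b a
    rw [hw]
    exact Submodule.smul_mem _ _ (Submodule.subset_span ⟨_, rfl⟩)
  | zero => simp
  | add u v _ _ hu hv => rw [add_mul]; exact add_mem hu hv
  | smul c u _ hu => rw [smul_mul_assoc]; exact Submodule.smul_mem _ _ hu

/-- normal form -/
theorem exists_nf (x : Q q) : ∃ c : ℤ →₀ ℤ, x = c.sum fun j w => w • eb q j := by
  suffices h : x ∈ Submodule.span ℤ (Set.range (eb q)) by
    obtain ⟨c, hc⟩ := Finsupp.mem_span_range_iff_exists_finsupp.1 h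
    exact ⟨c, hc.symm⟩
  obtain ⟨p, rfl⟩ := Ideal.Quotient.mk_surjective x
  induction p using MvPolynomial.induction_on with
  | C n =>
    rw [eq_intCast, map_intCast, ← mul_one ((n : ℤ) : Q q), ← zsmul_eq_mul, ← eb_zero (q := q)]
    exact Submodule.smul_mem _ _ (Submodule.subset_span ⟨_, rfl⟩)
  | add a b ha hb => rw [map_add]; exact add_mem ha hb
  | mul_X a i ha =>
    rw [map_mul]
    fin_cases i
    · show Ideal.Quotient.mk (Ideal.span {rel q}) a * qF q ∈ _
      rw [← eb_one]; exact mul_mem_span ha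
    · show Ideal.Quotient.mk (Ideal.span {rel q}) a * qV q ∈ _
      rw [← eb_neg_one]; exact mul_mem_span ha

/-- the embedding into Laurent polynomials -/
def toL (q : ℤ) : Q q →+* LaurentPolynomial ℚ :=
  Ideal.Quotient.lift _
    (MvPolynomial.aeval ![LaurentPolynomial.T 1, LaurentPolynomial.C (q : ℚ) * LaurentPolynomial.T (-1)] :
      MvPolynomial (Fin 2) ℤ →ₐ[ℤ] LaurentPolynomial ℚ).toRingHom (by
    intro a ha
    obtain ⟨c, rfl⟩ := Ideal.mem_span_singleton'.1 ha
    simp only [rel, AlgHom.toRingHom_eq_coe, RingHom.coe_coe, map_mul, map_sub, aeval_X, Matrix.cons_val_zero,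
      Matrix.cons_val_one, aeval_C]
    rw [← mul_assoc (LaurentPolynomial.T (1 : ℤ)), mul_comm (LaurentPolynomial.T (1 : ℤ)), mul_assoc (LaurentPolynomial.C (q : ℚ)),
      ← LaurentPolynomial.T_add]
    simp)

theorem toL_qF : toL q (qF q) = LaurentPolynomial.T 1 := by simp [toL, qF]

theorem toL_qV : toL q (qV q) = LaurentPolynomial.C (q : ℚ) * LaurentPolynomial.T (-1) := by simp [toL, qV]

theorem toL_eb (j : ℤ) : toL q (eb q j) = LaurentPolynomial.C ((q : ℚ) ^ (-j).toNat) * LaurentPolynomial.T j := by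
  rw [eb, map_mul, map_pow, map_pow, toL_qF, toL_qV, mul_pow, ← map_pow, LaurentPolynomial.T_pow, LaurentPolynomial.T_pow,
    mul_left_comm, ← LaurentPolynomial.T_add]
  congr 2
  omega

theorem toL_nf (c : ℤ →₀ ℤ) (j : ℤ) :
    (toL q (c.sum fun i w => w • eb q i)).coeff j = (c j : ℚ) * (q : ℚ) ^ (-j).toNat := by
  classical
  rw [map_finsuppSum]
  simp only [map_zsmul, toL_eb, Finsupp.sum, ← LaurentPolynomial.single_eq_C_mul_T, AddMonoidAlgebra.coeff_sum,
    AddMonoidAlgebra.coeff_smul, AddMonoidAlgebra.coeff_single, Finset.sum_apply', Finsupp.smul_apply,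
    Finsupp.single_apply]
  rw [Finset.sum_eq_single j (fun b _ hb => by rw [if_neg hb, smul_zero]) (fun h => by
    rw [Finsupp.notMem_support_iff.1 h, zero_smul])]
  simp [zsmul_eq_mul]

theorem toL_injective (hq : q ≠ 0) : Function.Injective (toL q) := by
  rw [injective_iff_map_eq_zero]
  intro x hx
  obtain ⟨c, rfl⟩ := exists_nf x
  have hc : c = 0 := by
    ext j
    have h := toL_nf (q := q) c j
    rw [hx, AddMonoidAlgebra.coeff_zero, Finsupp.zero_apply, eq_comm, mul_eq_zero, Int.cast_eq_zero] at h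
    exact h.resolve_right (pow_ne_zero _ (Int.cast_ne_zero.2 hq))
  simp [hc]

theorem coeff_mul_T (f : LaurentPolynomial ℚ) (n j : ℤ) :
    (f * LaurentPolynomial.T n).coeff j = f.coeff (j - n) := by
  classical
  induction f using LaurentPolynomial.induction_on' with
  | add f g hf hg => rw [add_mul]; simp [hf, hg]
  | C_mul_T m a =>
    rw [mul_assoc, ← LaurentPolynomial.T_add, ← LaurentPolynomial.single_eq_C_mul_T, ← LaurentPolynomial.single_eq_C_mul_T,
      AddMonoidAlgebra.coeff_single, AddMonoidAlgebra.coeff_single, Finsupp.single_apply, Finsupp.single_apply]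
    congr 1
    exact propext ⟨fun h => by omega, fun h => by omega⟩

theorem coeff_toLaurent_natCast (f : Polynomial ℚ) (j : ℕ) : (Polynomial.toLaurent f).coeff (j : ℤ) = f.coeff j := by
  rw [LaurentPolynomial.coeff_toLaurent]
  exact Finsupp.mapDomain_apply Nat.castEmbedding.injective _ _

theorem coeff_toLaurent_of_neg (f : Polynomial ℚ) {j : ℤ} (hj : j < 0) : (Polynomial.toLaurent f).coeff j = 0 := by
  rw [LaurentPolynomial.coeff_toLaurent]
  refine Finsupp.mapDomain_notin_range _ _ ?_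
  rintro ⟨i, hi⟩
  have : (0 : ℤ) ≤ j := hi ▸ (Int.natCast_nonneg i)
  omega

section Kernel

variable {P : Polynomial ℤ} {D : ℕ} {h : Q q}

theorem toL_aeval (f : Polynomial ℤ) :
    toL q (Polynomial.aeval (qF q) f) = Polynomial.toLaurent (f.map (Int.castRingHom ℚ)) := by
  induction f using Polynomial.induction_on' with
  | add f g hf hg => simp [hf, hg]
  | monomial n a =>
    rw [Polynomial.aeval_monomial, map_mul, map_pow, toL_qF, LaurentPolynomial.T_pow, Polynomial.map_monomial,
      Polynomial.toLaurent_C_mul_T, mul_one, eq_intCast, map_intCast, eq_intCast, map_intCast]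

variable (hq : q ≠ 0) (hP : P.Monic) (hdeg : P.natDegree = 2 * D)
  (hh : qF q ^ D * h = Polynomial.aeval (qF q) P)
  {ε : ℤ} (hε : ε * ε = 1) (h0 : P.coeff 0 = ε * q ^ D)

include hh in
theorem toL_h : toL q h = Polynomial.toLaurent (P.map (Int.castRingHom ℚ)) * LaurentPolynomial.T (-(D : ℤ)) := by
  have h1 := congrArg (toL q) hh
  rw [map_mul, map_pow, toL_qF, LaurentPolynomial.T_pow, mul_one, toL_aeval] at h1
  rw [← h1, mul_comm (LaurentPolynomial.T (D : ℤ)), mul_assoc, ← LaurentPolynomial.T_add, add_neg_cancel,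
    LaurentPolynomial.T_zero, mul_one]

include hq hP hdeg hh h0 in
/-- the shape of `h` -/
theorem h_nf : ∃ c : ℤ →₀ ℤ, h = c.sum (fun j w => w • eb q j) ∧ c (D : ℤ) = 1 ∧ c (-(D : ℤ)) = (if D = 0 then 1 else ε) ∧
    ∀ j : ℤ, (j < -(D : ℤ) ∨ (D : ℤ) < j) → c j = 0 := by
  obtain ⟨c, hc⟩ := exists_nf h
  have hco : ∀ j : ℤ, (c j : ℚ) * (q : ℚ) ^ (-j).toNat =
      (Polynomial.toLaurent (P.map (Int.castRingHom ℚ))).coeff (j + D) := fun j => by
    rw [← toL_nf (q := q) c j, ← hc, toL_h hh, coeff_mul_T, sub_neg_eq_add]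
  refine ⟨c, hc, ?_, ?_, fun j hj => ?_⟩
  · have h1 := hco D
    rw [show ((D : ℤ) + D) = ((2 * D : ℕ) : ℤ) by push_cast; ring, coeff_toLaurent_natCast, Polynomial.coeff_map,
      show (-(D : ℤ)).toNat = 0 by omega, pow_zero, mul_one, ← hdeg, hP.coeff_natDegree] at h1
    simpa using h1
  · have h1 := hco (-(D : ℤ))
    rw [neg_add_cancel, show (0 : ℤ) = ((0 : ℕ) : ℤ) from rfl, coeff_toLaurent_natCast, Polynomial.coeff_map,
      neg_neg, Int.toNat_natCast, h0] at h1
    split_ifs with hD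
    · subst hD
      have h2 : P.coeff 0 = 1 := by
        have := hP.coeff_natDegree
        rwa [hdeg] at this
      rw [pow_zero, mul_one] at h0
      rw [h2] at h0
      simpa [← h0] using h1
    · rw [map_mul, map_pow, Int.coe_castRingHom] at h1
      simp only at h1
      exact_mod_cast mul_right_cancel₀ (pow_ne_zero D (Int.cast_ne_zero.2 hq : (q : ℚ) ≠ 0)) h1
  · have h1 := hco j
    have h2 : (Polynomial.toLaurent (P.map (Int.castRingHom ℚ))).coeff (j + D) = 0 := by
      rcases hj with hj | hj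
      · exact coeff_toLaurent_of_neg _ (by omega)
      · obtain ⟨i, hi⟩ : ∃ i : ℕ, j + D = (i : ℤ) := ⟨(j + D).toNat, by omega⟩
        rw [hi, coeff_toLaurent_natCast, Polynomial.coeff_map, Polynomial.coeff_eq_zero_of_natDegree_lt (by omega),
          map_zero]
    rw [h2, mul_eq_zero, Int.cast_eq_zero] at h1
    exact h1.resolve_right (pow_ne_zero _ (Int.cast_ne_zero.2 hq))

/-- the `2D` basic elements -/
def M (q : ℤ) (D : ℕ) : Submodule ℤ (Q q) :=
  Submodule.span ℤ (eb q '' Set.Ico (-(D : ℤ)) (D : ℤ))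

include hq hP hdeg hh hε h0 in
theorem eb_mem (n : ℕ) : ∀ j : ℤ, j.natAbs = n →
    eb q j ∈ M q D ⊔ (Ideal.span {h}).restrictScalars ℤ := by
  obtain ⟨c, hc, hcD, hcD', hout⟩ := h_nf hq hP hdeg hh h0
  induction n using Nat.strong_induction_on with
  | _ n ih =>
    intro j hj
    by_cases hjM : -(D : ℤ) ≤ j ∧ j < D
    · exact Submodule.mem_sup_left (Submodule.subset_span ⟨j, hjM, rfl⟩)
    obtain ⟨t, a, ha, ht, hw⟩ : ∃ t a : ℤ, j = a + t ∧ (c t = 1 ∨ c t = ε) ∧
        ((t = D ∧ 0 ≤ a) ∨ (t = -(D : ℤ) ∧ a < 0)) := by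
      by_cases hp : (D : ℤ) ≤ j
      · exact ⟨D, j - D, by omega, Or.inl hcD, Or.inl ⟨rfl, by omega⟩⟩
      · refine ⟨-(D : ℤ), j + D, by omega, ?_, Or.inr ⟨rfl, by omega⟩⟩
        rw [hcD']
        split_ifs
        · exact Or.inl rfl
        · exact Or.inr rfl
    have hct : c t * c t = 1 := by
      rcases ht with ht | ht <;> rw [ht]
      · rfl
      · exact hε
    have hsum : eb q a * h = ∑ i ∈ c.support, c i • (eb q a * eb q i) := by
      rw [hc, Finsupp.sum, Finset.mul_sum]
      exact Finset.sum_congr rfl fun i _ => by rw [mul_smul_comm]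
    have hmul : eb q a * h ∈ M q D ⊔ (Ideal.span {h}).restrictScalars ℤ :=
      Submodule.mem_sup_right (Ideal.mul_mem_left _ _ (Ideal.mem_span_singleton_self h))
    have hts : t ∈ c.support := Finsupp.mem_support_iff.2 fun h' => by simp [h'] at hct
    rw [hsum, ← Finset.add_sum_erase _ _ hts] at hmul
    have hrest : ∑ i ∈ c.support.erase t, c i • (eb q a * eb q i) ∈ M q D ⊔ (Ideal.span {h}).restrictScalars ℤ := by
      refine Submodule.sum_mem _ fun i hi => Submodule.smul_mem _ _ ?_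
      obtain ⟨hit, hi'⟩ := Finset.mem_erase.1 hi
      obtain ⟨w, hw'⟩ := eb_mul (q := q) a i
      rw [hw']
      refine Submodule.smul_mem _ _ ?_
      have hrange : -(D : ℤ) ≤ i ∧ i ≤ D := by
        by_contra hr
        exact Finsupp.mem_support_iff.1 hi' (hout i (by omega))
      by_cases hiM : -(D : ℤ) ≤ a + i ∧ a + i < D
      · exact Submodule.mem_sup_left (Submodule.subset_span ⟨_, hiM, rfl⟩)
      · exact ih (a + i).natAbs (by omega) _ rfl
    have hmain := (Submodule.add_mem_iff_left _ hrest).1 hmul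
    have hprod : eb q a * eb q t = eb q j := by
      subst ha
      rcases hw with ⟨rfl, h1⟩ | ⟨rfl, h1⟩
      · simp only [eb, show (-a).toNat = 0 by omega, show (-(D : ℤ)).toNat = 0 by omega,
          show (-(a + D)).toNat = 0 by omega, show (a + (D : ℤ)).toNat = a.toNat + D by omega, Int.toNat_natCast]
        ring
      · simp only [eb, show a.toNat = 0 by omega, show (a + -(D : ℤ)).toNat = 0 by omega,
          show (-(a + -(D : ℤ))).toNat = (-a).toNat + D by omega, show (-(D : ℤ)).toNat = 0 by omega, neg_neg,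
          Int.toNat_natCast]
        ring
    rw [hprod] at hmain
    have := Submodule.smul_mem _ (c t) hmain
    rwa [smul_smul, hct, one_smul] at this

include hq hP hdeg hh hε h0 in
theorem sup_eq_top : M q D ⊔ (Ideal.span {h}).restrictScalars ℤ = ⊤ := by
  rw [eq_top_iff]
  intro x _
  obtain ⟨c, rfl⟩ := exists_nf x
  exact Submodule.sum_mem _ fun j _ => Submodule.smul_mem _ _ (eb_mem hq hP hdeg hh hε h0 _ j rfl)

include hq hdeg in
/-- a combination of the basic elements killed by the conjugates is zero -/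
theorem indep {A : Type*} [CommRing A] (φ : Q q →+* A) (hu : ∀ a : A, a * φ (qF q) ^ D = 0 → a = 0)
    (hP' : ∀ f : Polynomial ℤ, Polynomial.aeval (φ (qF q)) f = 0 → P ∣ f) {z : Q q} (hz : z ∈ M q D)
    (hz0 : φ z = 0) : z = 0 := by
  obtain ⟨c, hcs, hc⟩ := (Finsupp.mem_span_image_iff_linearCombination ℤ).1 hz
  rw [Finsupp.linearCombination_apply] at hc
  rw [Finsupp.mem_supported] at hcs
  let f : Polynomial ℤ := ∑ j ∈ c.support, Polynomial.monomial (j + D).toNat (c j * q ^ (-j).toNat)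
  have hstep : ∀ j ∈ c.support, qF q ^ D * eb q j = (q ^ (-j).toNat : ℤ) • qF q ^ (j + D).toNat := by
    intro j hj
    have hjr := hcs (Finset.mem_coe.2 hj)
    rw [Set.mem_Ico] at hjr
    rw [eb, zsmul_eq_mul, ← qF_pow_mul_qV_pow, ← mul_assoc, ← pow_add,
      show D + j.toNat = (-j).toNat + (j + D).toNat by omega, pow_add]
    ring
  have hf : Polynomial.aeval (φ (qF q)) f = 0 := by
    have h1 : φ (qF q ^ D * z) = 0 := by rw [map_mul, hz0, mul_zero]
    rw [← hc, Finsupp.sum, Finset.mul_sum, map_sum] at h1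
    rw [map_sum, ← h1]
    refine Finset.sum_congr rfl fun j hj => ?_
    rw [mul_smul_comm, hstep j hj, smul_smul, map_zsmul, map_pow, Polynomial.aeval_monomial, zsmul_eq_mul, eq_intCast]
  have hfd : f.degree < (P.natDegree : WithBot ℕ) := by
    refine lt_of_le_of_lt (Polynomial.degree_sum_le _ _) ((Finset.sup_lt_iff (WithBot.bot_lt_coe _)).2 fun j hj => ?_)
    refine lt_of_le_of_lt (Polynomial.degree_monomial_le _ _) ?_
    have hjr := hcs (Finset.mem_coe.2 hj)
    rw [Set.mem_Ico] at hjr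
    exact_mod_cast (by omega : (j + D).toNat < P.natDegree)
  have hf0 : f = 0 := by
    obtain ⟨g, hg⟩ := hP' f hf
    by_contra hne
    have h1 : P.natDegree ≤ f.natDegree := Polynomial.natDegree_le_of_dvd ⟨g, hg⟩ hne
    rw [Polynomial.degree_eq_natDegree hne] at hfd
    exact absurd (WithBot.coe_lt_coe.1 hfd) (not_lt.2 h1)
  have hc0 : c = 0 := by
    ext j
    by_contra hj
    have hj' : j ∈ c.support := Finsupp.mem_support_iff.2 hj
    have h1 := congrArg (fun g => Polynomial.coeff g (j + D).toNat) hf0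
    simp only [f, Polynomial.finsetSum_coeff, Polynomial.coeff_monomial, Polynomial.coeff_zero] at h1
    rw [Finset.sum_eq_single j (fun b hb hbj => if_neg (by
        have hb' := hcs (Finset.mem_coe.2 hb)
        have hjr := hcs (Finset.mem_coe.2 hj')
        rw [Set.mem_Ico] at hb' hjr
        omega)) (fun hn => absurd hj' hn), if_pos rfl, mul_eq_zero] at h1
    exact hj (h1.resolve_right (pow_ne_zero _ hq))
  rw [← hc, hc0, Finsupp.sum_zero_index]

include hq hP hdeg hh hε h0 in
theorem ker_eq {A : Type*} [CommRing A] (φ : Q q →+* A) (hu : ∀ a : A, a * φ (qF q) ^ D = 0 → a = 0)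
    (hP' : ∀ f : Polynomial ℤ, Polynomial.aeval (φ (qF q)) f = 0 ↔ P ∣ f) :
    RingHom.ker φ = Ideal.span {h} := by
  have hφh : φ h = 0 := hu _ (by
    have h1 := congrArg φ hh
    rw [map_mul, map_pow] at h1
    rw [mul_comm, h1]
    show φ (Polynomial.aeval (qF q) P) = 0
    rw [← (hP' P).2 dvd_rfl]
    exact (Polynomial.aeval_algHom_apply φ.toIntAlgHom (qF q) P).symm)
  refine le_antisymm (fun x hx => ?_) ((Ideal.span_singleton_le_iff_mem _).2 hφh)
  obtain ⟨z, hz, y, hy, rfl⟩ := Submodule.mem_sup.1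
    ((sup_eq_top hq hP hdeg hh hε h0).ge (Submodule.mem_top (x := x)))
  have hy0 : φ y = 0 := (Ideal.span_singleton_le_iff_mem (RingHom.ker φ)).2 hφh hy
  have hz0 : φ z = 0 := by
    rw [RingHom.mem_ker, map_add, hy0, add_zero] at hx
    exact hx
  rw [indep hq hdeg φ hu (fun f hf => (hP' f).1 hf) hz hz0, zero_add]
  exact hy

include hq hP hh in
theorem regular_h {x : Q q} (hx : h * x = 0) : x = 0 := by
  apply toL_injective hq
  have h1 := congrArg (toL q) hx
  rw [map_mul, map_zero] at h1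
  rw [map_zero]
  refine (mul_eq_zero.1 h1).resolve_left ?_
  rw [toL_h hh]
  refine mul_ne_zero ?_ (LaurentPolynomial.isUnit_T _).ne_zero
  rw [Polynomial.toLaurent_ne_zero]
  exact (hP.map _).ne_zero

end Kernel

end

end Groth.Agent.WeilOrdLib
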