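import Groth.Agent.WeilOrdLib.Exists

/-! # The minimal central order of a family of Weil numbers -/

set_option autoImplicit false
universe u

namespace Groth.Agent.WeilOrdLib

open scoped Classical

/-- the data of the minimal central order: `Q → ∏ K i` with kernel `(h)` and basis `eb` -/
theorem family (p e : ℕ) [Fact p.Prime]
    (ι : Type) [Fintype ι] (K : ι → Type u) [∀ i, Field (K i)] [∀ i, CharZero (K i)] (π : ∀ i, K i)
    (hint : ∀ i, IsIntegral ℤ (π i))
    (hweil : ∀ i, ∀ z ∈ (minpoly ℤ (π i)).aroots ℂ, ‖z‖ = Real.sqrt ((p : ℝ) ^ e))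
    (hinj : ∀ i j, minpoly ℤ (π i) = minpoly ℤ (π j) → i = j)
    (D : ℕ) (hD : ∑ i, (minpoly ℤ (π i)).natDegree = 2 * D) :
    ∃ (φ : Q ((p : ℤ) ^ e) →+* ((i : ι) → K i)) (h : Q ((p : ℤ) ^ e)),
      (∀ x, φ (Ideal.Quotient.mk _ x) =
        (MvPolynomial.aeval ![fun i => π i, fun i => ((p : K i) ^ e) / π i] :
          MvPolynomial (Fin 2) ℤ →ₐ[ℤ] ((i : ι) → K i)) x) ∧
      (∀ x, h * x = 0 → x = 0) ∧ RingHom.ker φ = Ideal.span {h} ∧
      qF ((p : ℤ) ^ e) ^ D * h = Polynomial.aeval (qF ((p : ℤ) ^ e)) (∏ i, minpoly ℤ (π i)) ∧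
      M ((p : ℤ) ^ e) D ⊔ (Ideal.span {h}).restrictScalars ℤ = ⊤ ∧
      (∀ z ∈ M ((p : ℤ) ^ e) D, φ z = 0 → z = 0) := by
  set q : ℤ := (p : ℤ) ^ e with hqdef
  have hq : q ≠ 0 := pow_ne_zero _ (by exact_mod_cast (Fact.out : p.Prime).ne_zero)
  have hsq : (0 : ℝ) < Real.sqrt ((p : ℝ) ^ e) := Real.sqrt_pos.2 (pow_pos (by exact_mod_cast (Fact.out : p.Prime).pos) _)
  set P : Polynomial ℤ := ∏ i, minpoly ℤ (π i) with hPdef
  have hm : ∀ i, (minpoly ℤ (π i)).Monic := fun i => minpoly.monic (hint i)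
  have hP : P.Monic := Polynomial.monic_prod_of_monic _ _ fun i _ => hm i
  have hdeg : P.natDegree = 2 * D := by
    rw [hPdef, Polynomial.natDegree_prod_of_monic _ _ (fun i _ => hm i), hD]
  have hnorm : |(P.coeff 0 : ℤ)| = q ^ D := by
    have h1 : ∀ i, ‖(((minpoly ℤ (π i)).coeff 0 : ℤ) : ℂ)‖ = Real.sqrt ((p : ℝ) ^ e) ^ (minpoly ℤ (π i)).natDegree := by
      intro i
      let f := (minpoly ℤ (π i)).map (Int.castRingHom ℂ)
      have hf : f.Monic := (hm i).map _
      have h2 := (IsAlgClosed.splits f).coeff_zero_eq_prod_roots_of_monic hf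
      rw [Polynomial.coeff_map, eq_intCast] at h2
      rw [h2, norm_mul, norm_pow, norm_neg, norm_one, one_pow, one_mul, ← (hm i).natDegree_map (Int.castRingHom ℂ),
        (IsAlgClosed.splits f).natDegree_eq_card_roots, ← normHom_apply, map_multiset_prod]
      rw [Multiset.map_congr rfl (g := fun _ => Real.sqrt ((p : ℝ) ^ e)) (fun z hz => by
        rw [normHom_apply]
        refine hweil i z ?_
        rw [Polynomial.aroots_def]
        exact hz), Multiset.map_const', Multiset.prod_replicate]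
    have h3 : (|(P.coeff 0 : ℤ)| : ℝ) = ((q ^ D : ℤ) : ℝ) := by
      rw [← Complex.norm_intCast, hPdef, Polynomial.coeff_zero_prod, Int.cast_prod, norm_prod]
      simp only [h1]
      rw [Finset.prod_pow_eq_pow_sum, hD, pow_mul, Real.sq_sqrt (by positivity), hqdef]
      push_cast
      rfl
    exact_mod_cast h3
  obtain ⟨ε, hε, h0⟩ : ∃ ε : ℤ, ε * ε = 1 ∧ P.coeff 0 = ε * q ^ D := by
    rcases le_total 0 (P.coeff 0) with hs | hs
    · exact ⟨1, rfl, by rw [one_mul, ← hnorm, abs_of_nonneg hs]⟩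
    · exact ⟨-1, rfl, by rw [← hnorm, abs_of_nonpos hs]; ring⟩
  have hπ0 : ∀ i, π i ≠ 0 := by
    intro i hi
    have hz : (minpoly ℤ (π i)).coeff 0 = 0 := by
      have h1 := minpoly.aeval ℤ (π i)
      rw [hi, ← Polynomial.coeff_zero_eq_aeval_zero', eq_intCast] at h1
      rw [hi]
      exact_mod_cast h1
    have h2 : P.coeff 0 = 0 := by
      rw [hPdef, Polynomial.coeff_zero_prod]
      exact Finset.prod_eq_zero (Finset.mem_univ i) hz
    rw [h2, abs_zero] at hnorm
    exact pow_ne_zero D hq hnorm.symm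
  let ev : MvPolynomial (Fin 2) ℤ →ₐ[ℤ] ((i : ι) → K i) :=
    MvPolynomial.aeval ![fun i => π i, fun i => ((p : K i) ^ e) / π i]
  have hrel : ev (rel q) = 0 := by
    funext i
    simp only [ev, rel, map_sub, map_mul, MvPolynomial.aeval_X, MvPolynomial.aeval_C,
      Matrix.cons_val_zero, Matrix.cons_val_one, Pi.sub_apply, Pi.mul_apply, Pi.zero_apply]
    rw [mul_div_cancel₀ _ (hπ0 i), sub_eq_zero]
    simp [hqdef]
  let φ : Q q →+* ((i : ι) → K i) := Ideal.Quotient.lift _ ev.toRingHom (fun a ha => by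
    obtain ⟨c, rfl⟩ := Ideal.mem_span_singleton'.1 ha
    show ev (c * rel q) = 0
    rw [map_mul, hrel, mul_zero])
  have hφF : φ (qF q) = fun i => π i := by
    show ev (MvPolynomial.X 0) = _
    simp [ev]
  have hu : ∀ a : (i : ι) → K i, a * φ (qF q) ^ D = 0 → a = 0 := by
    intro a ha
    funext i
    have := congrFun ha i
    rw [hφF, Pi.mul_apply, Pi.pow_apply, Pi.zero_apply] at this
    exact (mul_eq_zero.1 this).resolve_right (pow_ne_zero _ (hπ0 i))
  have hP' : ∀ f : Polynomial ℤ, Polynomial.aeval (φ (qF q)) f = 0 ↔ P ∣ f := by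
    intro f
    rw [hφF]
    have hpi : Polynomial.aeval (fun i => π i) f = 0 ↔ ∀ i, Polynomial.aeval (π i) f = 0 := by
      have h1 : ∀ i, Polynomial.aeval (fun i => π i) f i = Polynomial.aeval (π i) f := fun i =>
        (Polynomial.aeval_algHom_apply (Pi.evalAlgHom ℤ K i) (fun i => π i) f).symm
      exact ⟨fun h i => by rw [← h1, h]; rfl, fun h => funext fun i => by rw [h1, h i]; rfl⟩
    rw [hpi]
    constructor
    · intro hf
      refine (Polynomial.map_dvd_map (Int.castRingHom ℚ) Int.cast_injective hP).1 ?_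
      rw [hPdef, Polynomial.map_prod]
      refine Fintype.prod_dvd_of_coprime (fun i j hij => ?_) fun i =>
        Polynomial.map_dvd _ (minpoly.isIntegrallyClosed_dvd (hint i) (hf i))
      have hirr : ∀ i, Irreducible ((minpoly ℤ (π i)).map (Int.castRingHom ℚ)) := fun i =>
        ((hm i).irreducible_iff_irreducible_map_fraction_map (K := ℚ)).1 (minpoly.irreducible (hint i))
      refine (hirr i).coprime_iff_not_dvd.2 fun hd => hij (hinj i j ?_)
      exact Polynomial.map_injective _ Int.cast_injective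
        (Polynomial.eq_of_monic_of_associated ((hm i).map _) ((hm j).map _) ((hirr i).associated_of_dvd (hirr j) hd))
    · intro hf i
      exact Polynomial.aeval_eq_zero_of_dvd_aeval_eq_zero ((Finset.dvd_prod_of_mem (fun i => minpoly ℤ (π i)) (Finset.mem_univ i)).trans hf) (minpoly.aeval ℤ (π i))
  set s : ℝ := Real.sqrt ((p : ℝ) ^ e) with hsdef
  have hs2 : ((s : ℂ)) ^ 2 = (q : ℂ) := by
    rw [← Complex.ofReal_pow, hsdef, Real.sq_sqrt (by positivity), hqdef]
    push_cast
    rfl
  have hsi : IsIntegral ℤ (s : ℂ) := IsIntegral.of_pow two_pos (by rw [hs2]; exact isIntegral_algebraMap (x := q))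
  have hpair : Pairwise fun i j => IsCoprime ((minpoly ℤ (π i)).map (Int.castRingHom ℚ)) ((minpoly ℤ (π j)).map (Int.castRingHom ℚ)) := by
    intro i j hij
    have hirr : ∀ i, Irreducible ((minpoly ℤ (π i)).map (Int.castRingHom ℚ)) := fun i =>
      ((hm i).irreducible_iff_irreducible_map_fraction_map (K := ℚ)).1 (minpoly.irreducible (hint i))
    refine (hirr i).coprime_iff_not_dvd.2 fun hd => hij (hinj i j ?_)
    exact Polynomial.map_injective _ Int.cast_injective
      (Polynomial.eq_of_monic_of_associated ((hm i).map _) ((hm j).map _) ((hirr i).associated_of_dvd (hirr j) hd))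
  set T := (P.map (Int.castRingHom ℂ)).roots with hTdef
  have hPC : (P.map (Int.castRingHom ℂ)).Monic := hP.map _
  have hnd : T.Nodup := by
    have hsep : (P.map (Int.castRingHom ℚ)).Separable := by
      rw [hPdef, Polynomial.map_prod]
      refine Polynomial.separable_prod (fun i j hij => hpair hij) fun i => ?_
      exact (((hm i).irreducible_iff_irreducible_map_fraction_map (K := ℚ)).1 (minpoly.irreducible (hint i))).separable
    have := Polynomial.nodup_roots (hsep.map (f := algebraMap ℚ ℂ))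
    rwa [Polynomial.map_map, show (algebraMap ℚ ℂ).comp (Int.castRingHom ℚ) = Int.castRingHom ℂ from RingHom.ext_int _ _] at this
  have hTmem : ∀ z ∈ T, ‖z‖ = s ∧ IsIntegral ℤ z := by
    intro z hz
    rw [hTdef, Polynomial.mem_roots hPC.ne_zero, Polynomial.IsRoot, Polynomial.eval_map] at hz
    refine ⟨?_, ⟨P, hP, by rw [algebraMap_int_eq]; exact hz⟩⟩
    rw [hPdef, Polynomial.eval₂_finsetProd, Finset.prod_eq_zero_iff] at hz
    obtain ⟨i, -, hi⟩ := hz
    refine hweil i z ?_
    rw [Polynomial.mem_aroots, Polynomial.aeval_def, algebraMap_int_eq]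
    exact ⟨(hm i).ne_zero, hi⟩
  have hconj : T.map (starRingEnd ℂ) = T := by
    rw [hTdef, ← Polynomial.Splits.roots_map (IsAlgClosed.splits _) (starRingEnd ℂ), Polynomial.map_map]
    congr 2
    exact RingHom.ext_int _ _
  have hcard : Multiset.card T = 2 * D := by
    rw [hTdef, ← (IsAlgClosed.splits _).natDegree_eq_card_roots, hP.natDegree_map, hdeg]
  have hbal : T.count ((s : ℂ)) = T.count (-(s : ℂ)) := by
    have hne : (s : ℂ) ≠ -(s : ℂ) := fun h => by
      have h1 := congrArg Complex.re h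
      simp at h1
      linarith
    have hpm : T.filter (fun z => z.im = 0) = T.filter (fun z => z = (s : ℂ)) + T.filter (fun z => z = -(s : ℂ)) := by
      have h0 : T.filter (fun z => z = (s : ℂ) ∧ z = -(s : ℂ)) = 0 :=
        Multiset.filter_eq_nil.2 fun z _ hz => hne (hz.1.symm.trans hz.2)
      rw [Multiset.filter_add_filter, h0, add_zero]
      refine Multiset.filter_congr fun z hz => ⟨fun him => ?_, fun h => by rcases h with rfl | rfl <;> simp⟩
      obtain ⟨r, hr⟩ := Complex.conj_eq_iff_real.1 (Complex.conj_eq_iff_im.2 him)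
      have h1 := (hTmem z hz).1
      rw [hr, Complex.norm_real, Real.norm_eq_abs] at h1
      rcases (abs_eq hsq.le).1 h1 with h | h
      · exact Or.inl (by rw [hr, h])
      · exact Or.inr (by rw [hr, h, Complex.ofReal_neg])
    have heven : ∃ k, Multiset.card (T.filter (fun z => ¬ z.im = 0)) = 2 * k := by
      refine ⟨Multiset.card (T.filter (fun z => 0 < z.im)), ?_⟩
      have h1 : (T.filter (fun z => 0 < z.im)).map (starRingEnd ℂ) = T.filter (fun z => z.im < 0) := by
        conv_rhs => rw [← hconj, Multiset.filter_map]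
        refine congrArg _ (Multiset.filter_congr fun z _ => ?_)
        simp
      have h2 : T.filter (fun z => ¬ z.im = 0) = T.filter (fun z => 0 < z.im) + T.filter (fun z => z.im < 0) := by
        have h0 : T.filter (fun z => 0 < z.im ∧ z.im < 0) = 0 :=
          Multiset.filter_eq_nil.2 fun z _ hz => absurd hz.2 (not_lt.2 hz.1.le)
        rw [Multiset.filter_add_filter, h0, add_zero]
        exact Multiset.filter_congr fun z _ => ⟨fun h => (lt_or_gt_of_ne h).symm, fun h => h.elim ne_of_gt ne_of_lt⟩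
      rw [h2, Multiset.card_add, ← h1, Multiset.card_map, two_mul]
    obtain ⟨k, hk⟩ := heven
    have htot := congrArg Multiset.card (Multiset.filter_add_not (fun z : ℂ => z.im = 0) T)
    rw [Multiset.card_add, hpm, Multiset.card_add, hk, hcard] at htot
    rw [Multiset.filter_eq', Multiset.filter_eq', Multiset.card_replicate, Multiset.card_replicate] at htot
    have := Multiset.nodup_iff_count_le_one.1 hnd (s : ℂ)
    have := Multiset.nodup_iff_count_le_one.1 hnd (-(s : ℂ))
    omega
  obtain ⟨f, hf⟩ := exists_symmetric hsq hs2 hsi T hconj hTmem hcard hbal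
  rw [hTdef, ← (IsAlgClosed.splits _).eq_prod_roots_of_monic hPC] at hf
  obtain ⟨h, hh'⟩ := exists_h hq P D f hf
  exact ⟨φ, h, fun x => rfl, fun x hx => regular_h hq hP hh' hx,
    ker_eq hq hP hdeg hh' hε h0 φ hu hP', hh', sup_eq_top hq hP hdeg hh' hε h0,
    fun z hz hz0 => indep hq hdeg φ hu (fun f hf => (hP' f).1 hf) hz hz0⟩

end Groth.Agent.WeilOrdLib
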