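import Mathlib
import Groth.Agent.WeilOrdLib.Basic

/-! # Evaluations of `ℤ[F,V]/(FV - q)` -/

set_option autoImplicit false

namespace Groth.Agent.WeilOrdLib

noncomputable section

open MvPolynomial in
theorem sub_C_eval_mem (a b : ℤ) (x : MvPolynomial (Fin 2) ℤ) :
    x - C (eval ![a, b] x) ∈ Ideal.span ({X 0 - C a, X 1 - C b} : Set (MvPolynomial (Fin 2) ℤ)) := by
  induction x using MvPolynomial.induction_on with
  | C n => simp
  | add f g hf hg =>
    rw [map_add, map_add]
    convert Ideal.add_mem _ hf hg using 1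
    ring
  | mul_X f i hf =>
    rw [map_mul, map_mul, eval_X]
    have hi : X i - C (![a, b] i) ∈ Ideal.span ({X 0 - C a, X 1 - C b} : Set (MvPolynomial (Fin 2) ℤ)) :=
      Ideal.subset_span (by fin_cases i <;> simp)
    convert Ideal.add_mem _ (Ideal.mul_mem_right (X i) _ hf) (Ideal.mul_mem_left _ (C (eval ![a, b] f)) hi) using 1
    ring

variable {q : ℤ} {S : Type*} [CommRing S]

/-- the evaluation at a point of `FV = q` -/
def evQ (a b : S) (hab : a * b = (q : S)) : Q q →+* S :=
  Ideal.Quotient.lift _ (MvPolynomial.aeval ![a, b] : MvPolynomial (Fin 2) ℤ →ₐ[ℤ] S).toRingHom (fun x hx => by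
    obtain ⟨c, rfl⟩ := Ideal.mem_span_singleton'.1 hx
    simp [rel, hab])

variable (a b : S) (hab : a * b = (q : S))

theorem evQ_mk (x : MvPolynomial (Fin 2) ℤ) : evQ a b hab (Ideal.Quotient.mk _ x) = MvPolynomial.aeval ![a, b] x := rfl

theorem evQ_qF : evQ a b hab (qF q) = a := by simp [qF, evQ_mk]

theorem evQ_qV : evQ a b hab (qV q) = b := by simp [qV, evQ_mk]

theorem exists_eq_sub (s : ℤ) (z : Q q) : ∃ (n : ℤ) (u v : Q q), z = n + (qF q - s) * u + (qV q - s) * v := by
  obtain ⟨x, rfl⟩ := Ideal.Quotient.mk_surjective z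
  obtain ⟨u, v, huv⟩ := Ideal.mem_span_pair.1 (sub_C_eval_mem s s x)
  refine ⟨MvPolynomial.eval ![s, s] x, Ideal.Quotient.mk _ u, Ideal.Quotient.mk _ v, ?_⟩
  have h1 := congrArg (Ideal.Quotient.mk (Ideal.span {rel q})) huv
  simp only [map_add, map_mul, map_sub, eq_intCast, map_intCast] at h1
  simp only [qF, qV]
  linear_combination -h1

/-- the points over the origin -/
theorem exists_eq_origin (z : Q q) : ∃ (n : ℤ) (u v : Q q), z = n + qF q * u + qV q * v := by
  obtain ⟨n, u, v, h⟩ := exists_eq_sub (q := q) 0 z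
  exact ⟨n, u, v, by simpa using h⟩

theorem exists_eq_of_evQ_eq_zero {s : ℤ} (hs : s * s = q) (z : Q q)
    (hz : evQ s s (by rw [hs, Int.cast_id]) z = (0 : ℤ)) :
    ∃ u v : Q q, z = (qF q - s) * u + (qV q - s) * v := by
  obtain ⟨n, u, v, rfl⟩ := exists_eq_sub (q := q) s z
  refine ⟨u, v, ?_⟩
  rw [map_add, map_add, map_mul, map_mul, map_sub, map_sub, map_intCast, map_intCast, evQ_qF, evQ_qV] at hz
  simp only [Int.cast_id, sub_self, zero_mul, add_zero] at hz
  rw [hz, Int.cast_zero, zero_add]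

theorem eval_evQ {p : ℕ} (A B : Polynomial (ZMod p)) (hab : A * B = (q : Polynomial (ZMod p)))
    (h0 : A.eval 0 * B.eval 0 = (q : ZMod p)) (z : Q q) :
    (evQ A B hab z).eval 0 = evQ (A.eval 0) (B.eval 0) h0 z := by
  obtain ⟨x, rfl⟩ := Ideal.Quotient.mk_surjective z
  induction x using MvPolynomial.induction_on with
  | C n => simp [evQ_mk]
  | add f g hf hg => simp only [map_add, Polynomial.eval_add, hf, hg]
  | mul_X f i hf =>
    rw [map_mul, map_mul, map_mul, Polynomial.eval_mul, hf]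
    fin_cases i <;> simp [evQ_mk]

theorem evQ_aeval (b : Polynomial S) (hab : Polynomial.X * b = (q : Polynomial S)) (f : Polynomial ℤ) :
    evQ Polynomial.X b hab (Polynomial.aeval (qF q) f) = f.map (Int.castRingHom S) := by
  induction f using Polynomial.induction_on' with
  | add f g hf hg => simp [hf, hg]
  | monomial n a =>
    rw [Polynomial.aeval_monomial, map_mul, map_pow, evQ_qF, Polynomial.map_monomial, eq_intCast, map_intCast,
      ← Polynomial.C_mul_X_pow_eq_monomial, eq_intCast, map_intCast]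

variable (hq : q ≠ 0) {P : Polynomial ℤ} (hP : P.Monic) {D : ℕ} (hdeg : P.natDegree = 2 * D) {h : Q q}
  (hh : qF q ^ D * h = Polynomial.aeval (qF q) P) (h0 : P.coeff 0 = q ^ D)

include hq hP hdeg hh h0 in
/-- the image of `h` on the branch `F = 0` is not zero -/
theorem evQ_h_ne_zero (p : ℕ) [Fact p.Prime] (hab : (0 : Polynomial (ZMod p)) * Polynomial.X = (q : Polynomial (ZMod p))) :
    evQ 0 Polynomial.X hab h ≠ 0 := by
  classical
  obtain ⟨c, hc, -, hcD, -⟩ := h_nf (ε := 1) hq hP hdeg hh (by rw [one_mul, h0])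
  rw [ite_self] at hcD
  intro hz
  have h1 := congrArg (fun f => Polynomial.coeff f D) hz
  rw [hc, Finsupp.sum, map_sum] at h1
  simp only [map_zsmul, eb, map_mul, map_pow, evQ_qF, evQ_qV,
    Polynomial.finsetSum_coeff, Polynomial.coeff_zero, Polynomial.coeff_smul] at h1
  rw [Finset.sum_eq_single (-(D : ℤ)) (fun j _ hj => by
      rcases Nat.eq_zero_or_pos j.toNat with h2 | h2
      · rw [h2, pow_zero, one_mul, Polynomial.coeff_X_pow, if_neg (by omega), smul_zero]
      · rw [zero_pow (by omega), zero_mul, Polynomial.coeff_zero, smul_zero])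
    (fun hn => by rw [Finsupp.notMem_support_iff.1 hn, zero_smul]), hcD] at h1
  simp [show (-(D : ℤ)).toNat = 0 by omega] at h1

end

end Groth.Agent.WeilOrdLib
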