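import Mathlib
import Groth.Agent.GorLib.FieldExt
import Groth.Agent.GorLib.Socle
import Groth.Agent.DualCxLib.QuotDual
import Groth.Agent.WeilOrdLib.Basic

/-! # Local tests for the Gorenstein property -/

set_option autoImplicit false
universe u

open IsLocalRing

namespace Groth.Agent.WeilOrdLib

/-- `ℤ[F,V]/(FV - q)` is a Gorenstein ring -/
theorem gorenstein_Q {q : ℤ} (hq : q ≠ 0) : LocCoh.IsGorensteinRing (ULift.{u} (Q q)) := by
  let U := ULift.{u} ℤ
  haveI : IsRegularRing U := IsRegularRing.of_ringEquiv (ULift.ringEquiv (R := ℤ)).symm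
  have hS : LocCoh.IsGorensteinRing (MvPolynomial (Fin 2) U) :=
    { isGorensteinLocalRing_localization := fun P _ => by
        haveI : IsRegularLocalRing (Localization.AtPrime P) := IsRegularRing.isRegularLocalRing_localization P
        exact DualCxLib.gorenstein_of_regular _ }
  have hne : rel q ≠ 0 := by
    intro h'
    have := congrArg (MvPolynomial.eval ![(0 : ℤ), 0]) h'
    simp [rel, hq] at this
  let E : MvPolynomial (Fin 2) U ≃+* MvPolynomial (Fin 2) ℤ := MvPolynomial.mapEquiv (Fin 2) (ULift.ringEquiv (R := ℤ))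
  let L : ULift.{u} (Q q) ≃+* Q q := ULift.ringEquiv
  let σ : MvPolynomial (Fin 2) U →+* ULift.{u} (Q q) :=
    L.symm.toRingHom.comp ((Ideal.Quotient.mk (Ideal.span {rel q})).comp E.toRingHom)
  refine GorLib.gorensteinRing_of_surjective_span_singleton (p := E.symm (rel q)) hS σ
    (L.symm.surjective.comp (Ideal.Quotient.mk_surjective.comp E.surjective)) ?_ ?_
  · ext x
    rw [RingHom.mem_ker, Ideal.mem_span_singleton]
    refine (map_eq_zero_iff L.symm L.symm.injective).trans (Ideal.Quotient.eq_zero_iff_mem.trans ?_)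
    rw [Ideal.mem_span_singleton]
    constructor
    · intro hx
      have := map_dvd E.symm hx
      rwa [RingEquiv.toRingHom_eq_coe, RingEquiv.coe_toRingHom, RingEquiv.symm_apply_apply] at this
    · intro hx
      have := map_dvd E hx
      rwa [RingEquiv.apply_symm_apply] at this
  · intro x hx
    have h1 := congrArg E hx
    rw [map_mul, RingEquiv.apply_symm_apply, map_zero] at h1
    exact (map_eq_zero_iff E E.injective).1 ((mul_eq_zero.1 h1).resolve_left hne)

/-- a quotient which is locally cut out by one regular element -/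
theorem gorenstein_of_locally_principal {A B : Type u} [CommRing A] [CommRing B] [IsNoetherianRing A]
    (σ : A →+* B) (hσ : Function.Surjective σ) (P : Ideal B) [P.IsPrime]
    (hA : LocCoh.IsGorensteinLocalRing (Localization.AtPrime (P.comap σ))) (t : A) (ht : σ t = 0)
    (hreg : ∀ x, t * x = 0 → x = 0) (hker : ∀ z, σ z = 0 → ∃ c ∉ P.comap σ, t ∣ c * z) :
    LocCoh.IsGorensteinLocalRing (Localization.AtPrime P) := by
  let 𝔭 := P.comap σ
  let L := Localization.AtPrime 𝔭
  let Φ : L →+* Localization.AtPrime P := Localization.localRingHom 𝔭 P σ rfl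
  let f : L := algebraMap A L t
  have hΦ : Function.Surjective Φ := by
    intro y
    obtain ⟨b, d, rfl⟩ := IsLocalization.exists_mk'_eq P.primeCompl y
    obtain ⟨a, rfl⟩ := hσ b
    obtain ⟨c, hc⟩ := hσ d.1
    have hc' : c ∈ 𝔭.primeCompl := fun h => d.2 (hc ▸ (h : σ c ∈ P))
    refine ⟨IsLocalization.mk' L a ⟨c, hc'⟩, ?_⟩
    rw [Localization.localRingHom_mk']
    congr 1
    exact Subtype.ext hc
  have hf : IsSMulRegular L f := by
    refine isSMulRegular_iff_right_eq_zero_of_smul.2 fun y hy => ?_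
    obtain ⟨a, d, rfl⟩ := IsLocalization.exists_mk'_eq 𝔭.primeCompl y
    rw [smul_eq_mul, IsLocalization.mul_mk'_eq_mk'_of_mul, IsLocalization.mk'_eq_zero_iff] at hy
    obtain ⟨c, hc⟩ := hy
    rw [IsLocalization.mk'_eq_zero_iff]
    exact ⟨c, hreg _ (by rw [← hc]; ring)⟩
  have hfm : f ∈ maximalIdeal L := by
    rw [IsLocalization.AtPrime.to_map_mem_maximal_iff L 𝔭]
    show σ t ∈ P
    rw [ht]; exact P.zero_mem
  have hk : RingHom.ker Φ = Ideal.span {f} := by
    refine le_antisymm (fun y hy => ?_) ((Ideal.span_singleton_le_iff_mem _).2 ?_)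
    · obtain ⟨a, d, rfl⟩ := IsLocalization.exists_mk'_eq 𝔭.primeCompl y
      rw [RingHom.mem_ker, Localization.localRingHom_mk', IsLocalization.mk'_eq_zero_iff] at hy
      obtain ⟨b, hb⟩ := hy
      obtain ⟨c, hc⟩ := hσ b.1
      rw [← hc, ← map_mul] at hb
      obtain ⟨c', hc', w, hw⟩ := hker _ hb
      have hcc : c' * c ∈ 𝔭.primeCompl := Submonoid.mul_mem _ hc' fun h => b.2 (hc ▸ (h : σ c ∈ P))
      have hu : IsUnit (algebraMap A L (c' * c)) := IsLocalization.map_units L ⟨_, hcc⟩
      rw [IsLocalization.mk'_eq_mul_mk'_one (S := L) a d, ← Ideal.unit_mul_mem_iff_mem _ hu, ← mul_assoc, ← map_mul,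
        mul_assoc c' c a, hw, map_mul]
      exact Ideal.mul_mem_right _ _ (Ideal.mul_mem_right _ _ (Ideal.mem_span_singleton_self f))
    · rw [RingHom.mem_ker, Localization.localRingHom_to_map, ht, map_zero]
  haveI : IsNoetherianRing L := IsLocalization.isNoetherianRing 𝔭.primeCompl L inferInstance
  have h1 := (GorLib.gorenstein_quotient_iff hf hfm).1 hA
  exact GorLib.gorenstein_of_ringEquiv
    ((RingHom.quotientKerEquivOfSurjective hΦ).symm.trans (Ideal.quotEquivOfEq hk)) h1

/-- a quotient by locally killed elements does not change the local ring -/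
theorem gorenstein_of_locally_iso {A B : Type u} [CommRing A] [CommRing B]
    (σ : A →+* B) (hσ : Function.Surjective σ) (P : Ideal A) [P.IsPrime]
    (hker : ∀ z, σ z = 0 → ∃ c ∉ P, c * z = 0) (hB : LocCoh.IsGorensteinRing B) :
    LocCoh.IsGorensteinLocalRing (Localization.AtPrime P) := by
  have hle : RingHom.ker σ ≤ P := fun z hz => by
    obtain ⟨c, hc, hcz⟩ := hker z hz
    exact ((‹P.IsPrime›).mem_or_mem (hcz.symm ▸ P.zero_mem)).resolve_left hc
  haveI : (P.map σ).IsPrime := Ideal.map_isPrime_of_surjective hσ hle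
  have hcomap : P = (P.map σ).comap σ := by
    rw [Ideal.comap_map_of_surjective' _ hσ, sup_eq_left.2 hle]
  let L := Localization.AtPrime P
  let Φ : L →+* Localization.AtPrime (P.map σ) := Localization.localRingHom P (P.map σ) σ hcomap
  have hb : Function.Bijective Φ := by
    refine ⟨(injective_iff_map_eq_zero Φ).2 fun y hy => ?_, fun y => ?_⟩
    · obtain ⟨a, d, rfl⟩ := IsLocalization.exists_mk'_eq P.primeCompl y
      rw [Localization.localRingHom_mk', IsLocalization.mk'_eq_zero_iff] at hy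
      obtain ⟨b, hb⟩ := hy
      obtain ⟨c, hc⟩ := hσ b.1
      rw [← hc, ← map_mul] at hb
      obtain ⟨c', hc', hc''⟩ := hker _ hb
      rw [IsLocalization.mk'_eq_zero_iff]
      refine ⟨⟨c' * c, Submonoid.mul_mem _ hc' fun h => b.2 (hc ▸ Ideal.mem_map_of_mem σ h)⟩, ?_⟩
      show c' * c * a = 0
      rw [mul_assoc, hc'']
    · obtain ⟨b, d, rfl⟩ := IsLocalization.exists_mk'_eq (P.map σ).primeCompl y
      obtain ⟨a, rfl⟩ := hσ b
      obtain ⟨c, hc⟩ := hσ d.1
      have hc' : c ∈ P.primeCompl := fun h => d.2 (hc ▸ Ideal.mem_map_of_mem σ h)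
      refine ⟨IsLocalization.mk' L a ⟨c, hc'⟩, ?_⟩
      rw [Localization.localRingHom_mk']
      congr 1
      exact Subtype.ext hc
  exact GorLib.gorenstein_of_ringEquiv (RingEquiv.ofBijective Φ hb) (hB.isGorensteinLocalRing_localization _)

/-- in a Gorenstein local ring modulo a regular element, two socle elements are proportional -/
theorem socle_test {R : Type u} [CommRing R] (P : Ideal R) [P.IsPrime]
    (hG : LocCoh.IsGorensteinLocalRing (Localization.AtPrime P)) (f x y : R) (hfP : f ∈ P)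
    (hreg : ∀ z, f * z = 0 → z = 0) (hx : ∀ a ∈ P, a * x ∈ Ideal.span {f}) (hy : ∀ a ∈ P, a * y ∈ Ideal.span {f})
    (hx0 : ∀ c ∉ P, c * x ∉ Ideal.span {f}) :
    ∃ c ∉ P, ∃ r, c * y - r * x ∈ Ideal.span {f} := by
  let L := Localization.AtPrime P
  haveI := hG
  let g : L := algebraMap R L f
  have hg : IsSMulRegular L g := by
    refine isSMulRegular_iff_right_eq_zero_of_smul.2 fun z hz => ?_
    obtain ⟨a, d, rfl⟩ := IsLocalization.exists_mk'_eq P.primeCompl z
    rw [smul_eq_mul, IsLocalization.mul_mk'_eq_mk'_of_mul, IsLocalization.mk'_eq_zero_iff] at hz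
    obtain ⟨c, hc⟩ := hz
    rw [IsLocalization.mk'_eq_zero_iff]
    exact ⟨c, hreg _ (by rw [← hc]; ring)⟩
  have hgm : g ∈ maximalIdeal L := (IsLocalization.AtPrime.to_map_mem_maximal_iff L P f).2 hfP
  have hG' := (GorLib.gorenstein_quotient_iff hg hgm).1 hG
  haveI := hG'
  let A := L ⧸ Ideal.span {g}
  let μ : R →+* A := (Ideal.Quotient.mk (Ideal.span {g})).comp (algebraMap R L)
  have hμ0 : ∀ z, μ z = 0 → ∃ c ∉ P, c * z ∈ Ideal.span {f} := by
    intro z hz
    obtain ⟨w, hw⟩ := Ideal.mem_span_singleton'.1 (Ideal.Quotient.eq_zero_iff_mem.1 hz)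
    obtain ⟨a, d, rfl⟩ := IsLocalization.exists_mk'_eq P.primeCompl w
    rw [mul_comm, IsLocalization.mul_mk'_eq_mk'_of_mul, IsLocalization.mk'_eq_iff_eq_mul, ← map_mul] at hw
    obtain ⟨c, hc⟩ := (IsLocalization.eq_iff_exists P.primeCompl L).1 hw
    refine ⟨c * d, Submonoid.mul_mem P.primeCompl c.2 d.2, ?_⟩
    rw [show (c : R) * d * z = c * (f * a) by rw [hc]; ring]
    exact Ideal.mul_mem_left _ _ (Ideal.mul_mem_right _ _ (Ideal.mem_span_singleton_self f))
  have hμf : ∀ z ∈ Ideal.span {f}, μ z = 0 := by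
    intro z hz
    obtain ⟨w, rfl⟩ := Ideal.mem_span_singleton'.1 hz
    show Ideal.Quotient.mk _ (algebraMap R L (w * f)) = 0
    rw [map_mul]
    exact Ideal.Quotient.eq_zero_iff_mem.2 (Ideal.mul_mem_left _ _ (Ideal.mem_span_singleton_self g))
  have hmax : ∀ a ∈ maximalIdeal A, ∀ z, (∀ b ∈ P, b * z ∈ Ideal.span {f}) → a * μ z = 0 := by
    intro a ha z hz
    obtain ⟨a, rfl⟩ := Ideal.Quotient.mk_surjective a
    obtain ⟨b, d, rfl⟩ := IsLocalization.exists_mk'_eq P.primeCompl a
    have hb : b ∈ P := by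
      by_contra hb
      have hu : IsUnit (IsLocalization.mk' L b d) := (IsLocalization.AtPrime.isUnit_mk'_iff L P b d).2 hb
      exact (IsLocalRing.mem_maximalIdeal _).1 ha (hu.map _)
    rw [show (μ z) = Ideal.Quotient.mk (Ideal.span {g}) (algebraMap R L z) from rfl, ← map_mul,
      IsLocalization.mk'_eq_mul_mk'_one (S := L) b d, mul_right_comm, ← map_mul]
    rw [map_mul]
    exact mul_eq_zero_of_left (hμf _ (hz b hb)) _
  have hx' : μ x ≠ 0 := fun h => by
    obtain ⟨c, hc, hc'⟩ := hμ0 x h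
    exact hx0 c hc hc'
  have hass : maximalIdeal A ∈ associatedPrimes A A := by
    rw [AssociatedPrimes.mem_iff, isAssociatedPrime_iff]
    refine ⟨inferInstance, μ x, ?_⟩
    ext a
    rw [Submodule.mem_colon_singleton, Submodule.mem_bot, smul_eq_mul]
    refine ⟨fun ha => hmax a ha x hx, fun ha => ?_⟩
    by_contra hn
    rw [IsLocalRing.mem_maximalIdeal, mem_nonunits_iff, not_not] at hn
    exact hx' ((hn.mul_right_eq_zero).1 ha)
  obtain ⟨n, hn⟩ := LocCoh.IsGorensteinLocalRing.exists_hasInjectiveDimensionLT (A := A)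
  obtain ⟨s, hs0, hs, hsoc⟩ := GorLib.socCyclic_of_injective (GorLib.idlt_one_iff.1 (GorLib.idlt_one_of_depth_zero hass hn)) hass
  obtain ⟨a, ha⟩ := Ideal.mem_span_singleton'.1 (hsoc _ fun a ha => hmax a ha x hx)
  obtain ⟨b, hb⟩ := Ideal.mem_span_singleton'.1 (hsoc _ fun a ha => hmax a ha y hy)
  have hau : IsUnit a := by
    by_contra hn'
    exact hx' (by rw [← ha, hs a ((IsLocalRing.mem_maximalIdeal a).2 hn')])
  obtain ⟨u, rfl⟩ := hau
  obtain ⟨w, hw⟩ := Ideal.Quotient.mk_surjective (I := Ideal.span {g}) (b * (↑u⁻¹ : A))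
  obtain ⟨r, d, rfl⟩ := IsLocalization.exists_mk'_eq P.primeCompl w
  have key : μ ((d : R) * y - r * x) = 0 := by
    have e1 : μ (d : R) * Ideal.Quotient.mk (Ideal.span {g}) (IsLocalization.mk' L r d) = μ r := by
      show Ideal.Quotient.mk _ _ * _ = Ideal.Quotient.mk _ _
      rw [← map_mul, IsLocalization.mk'_spec']
    rw [map_sub, map_mul, map_mul, ← e1, hw, ← ha, ← hb]
    calc μ (d : R) * (b * s) - μ (d : R) * (b * ↑u⁻¹) * (↑u * s)
        = μ (d : R) * b * s * (1 - ↑u⁻¹ * ↑u) := by ring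
      _ = 0 := by rw [Units.inv_mul, sub_self, mul_zero]
  obtain ⟨c, hc, hc'⟩ := hμ0 _ key
  refine ⟨c * d, Submonoid.mul_mem P.primeCompl hc d.2, c * r, ?_⟩
  rwa [show c * (d : R) * y - c * r * x = c * ((d : R) * y - r * x) by ring]

end Groth.Agent.WeilOrdLib
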