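import Mathlib

/-! # The number of unit roots of a monic integer polynomial in an algebraic closure of `ℚ_p` -/

set_option autoImplicit false

open Polynomial

namespace Groth.Agent.WeilOrdLib

noncomputable section

variable (p : ℕ) [Fact p.Prime]

/-- the valuation ring of `PadicAlgCl p` -/
abbrev padicO : ValuationSubring (PadicAlgCl p) :=
  (NormedField.valuation (K := PadicAlgCl p)).valuationSubring

theorem mem_padicO_iff (z : PadicAlgCl p) : z ∈ padicO p ↔ ‖z‖ ≤ 1 := by
  show ‖z‖₊ ≤ 1 ↔ _
  rw [← NNReal.coe_le_coe]; rfl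

theorem isUnit_padicO_iff (z : padicO p) : IsUnit z ↔ ‖(z : PadicAlgCl p)‖ = 1 := by
  constructor
  · rintro ⟨u, rfl⟩
    have h1 : ((u : padicO p) : PadicAlgCl p) * ((u⁻¹ : (padicO p)ˣ) : padicO p) = 1 := by
      rw [← MulMemClass.coe_mul, Units.mul_inv]; rfl
    have h2 := (mem_padicO_iff p _).1 ((u : padicO p)).2
    have h3 := (mem_padicO_iff p _).1 ((u⁻¹ : (padicO p)ˣ) : padicO p).2
    have h4 := congrArg norm h1
    rw [norm_mul, norm_one] at h4
    nlinarith [norm_nonneg ((u : padicO p) : PadicAlgCl p), norm_nonneg (((u⁻¹ : (padicO p)ˣ) : padicO p) : PadicAlgCl p)]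
  · intro h
    have hz : (z : PadicAlgCl p) ≠ 0 := fun h0 => by simp [h0] at h
    have hm : (z : PadicAlgCl p)⁻¹ ∈ padicO p := by rw [mem_padicO_iff, norm_inv, h, inv_one]
    exact IsUnit.of_mul_eq_one ⟨_, hm⟩ (Subtype.ext (mul_inv_cancel₀ hz))

theorem natCast_residue_eq_zero : ((p : ℕ) : IsLocalRing.ResidueField (padicO p)) = 0 := by
  rw [← map_natCast (IsLocalRing.residue (padicO p)), IsLocalRing.residue_eq_zero_iff, IsLocalRing.mem_maximalIdeal,
    mem_nonunits_iff, isUnit_padicO_iff]
  have h : ((p : padicO p) : PadicAlgCl p) = algebraMap ℚ_[p] (PadicAlgCl p) (p : ℚ_[p]) := by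
    rw [map_natCast]; norm_cast
  rw [h, PadicAlgCl.norm_extends, Padic.norm_p]
  have := (Fact.out : p.Prime).one_lt
  intro h1
  rw [inv_eq_one] at h1
  exact absurd (Nat.cast_eq_one.1 h1) (by omega)

instance : CharP (IsLocalRing.ResidueField (padicO p)) p :=
  ringChar.of_eq (CharP.ringChar_of_prime_eq_zero Fact.out (natCast_residue_eq_zero p))

/-- unit roots, counted through the reduction mod `p` -/
theorem card_unit_roots (P : ℤ[X]) (hP : P.Monic) :
    Multiset.card ((P.aroots (PadicAlgCl p)).filter (fun z => ‖z‖ = 1)) +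
      (P.map (Int.castRingHom (IsLocalRing.ResidueField (padicO p)))).natTrailingDegree = P.natDegree := by
  classical
  set k := IsLocalRing.ResidueField (padicO p)
  set S := P.aroots (PadicAlgCl p) with hS
  have hmem : ∀ z ∈ S, z ∈ padicO p := by
    intro z hz
    have h1 : IsIntegral ℤ z := ⟨P, hP, (mem_aroots.1 hz).2⟩
    obtain ⟨y, hy⟩ := IsIntegrallyClosed.isIntegral_iff.1 (IsIntegral.tower_top (A := padicO p) h1)
    rw [← hy]
    exact y.2
  obtain ⟨T, hT⟩ : ∃ T : Multiset (padicO p), T.map (fun z : padicO p => (z : PadicAlgCl p)) = S :=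
    CanLift.prf (β := Multiset (padicO p)) S hmem
  have hdeg : Multiset.card S = P.natDegree := by
    rw [hS, aroots_def, ← (IsAlgClosed.splits _).natDegree_eq_card_roots, natDegree_map_eq_of_injective (RingHom.injective_int _)]
  have hO : P.map (Int.castRingHom (padicO p)) = (T.map fun z => X - C z).prod := by
    apply map_injective (padicO p).subtype Subtype.val_injective
    rw [Polynomial.map_map, Polynomial.map_multiset_prod, Multiset.map_map]
    rw [RingHom.ext_int ((padicO p).subtype.comp (Int.castRingHom _)) (algebraMap ℤ (PadicAlgCl p))]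
    conv_lhs => rw [(IsAlgClosed.splits _).eq_prod_roots_of_monic (hP.map _), ← aroots_def, ← hS, ← hT, Multiset.map_map]
    congr 1
    refine Multiset.map_congr rfl fun z _ => ?_
    simp
  have hk : P.map (Int.castRingHom k) = ((T.map (IsLocalRing.residue (padicO p))).map fun z => X - C z).prod := by
    rw [RingHom.ext_int (Int.castRingHom k) ((IsLocalRing.residue (padicO p)).comp (Int.castRingHom _)),
      ← Polynomial.map_map, hO, Polynomial.map_multiset_prod, Multiset.map_map, Multiset.map_map]
    congr 1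
    refine Multiset.map_congr rfl fun z _ => ?_
    simp
  rw [← rootMultiplicity_eq_natTrailingDegree', ← count_roots, hk, roots_multiset_prod_X_sub_C,
    Multiset.count_map, ← hT, Multiset.filter_map, Multiset.card_map, ← hdeg, ← hT, Multiset.card_map]
  rw [← Multiset.card_add]
  congr 1
  have : T.filter (fun z : padicO p => 0 = IsLocalRing.residue (padicO p) z) = T.filter (fun z : padicO p => ¬ ‖(z : PadicAlgCl p)‖ = 1) :=
    Multiset.filter_congr fun z _ => by
      rw [← isUnit_padicO_iff, eq_comm, IsLocalRing.residue_eq_zero_iff, IsLocalRing.mem_maximalIdeal, mem_nonunits_iff]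
  rw [this]
  exact Multiset.filter_add_not _ _

/-- a monic integer polynomial of degree `2d` whose coefficients below `d` are divisible by `p` is ordinary iff
`p` does not divide the coefficient `d` -/
theorem ordinary_iff (P : ℤ[X]) (hP : P.Monic) (heven : Even P.natDegree)
    (hlow : ∀ j < P.natDegree / 2, (p : ℤ) ∣ P.coeff j) :
    2 * Multiset.card ((P.aroots (PadicAlgCl p)).filter (fun z => ‖z‖ = 1)) = P.natDegree ↔
      ¬ (p : ℤ) ∣ P.coeff (P.natDegree / 2) := by
  obtain ⟨d, hd⟩ := heven
  have hd2 : P.natDegree / 2 = d := by omega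
  rw [hd2] at hlow ⊢
  have h := card_unit_roots p P hP
  set Pk := P.map (Int.castRingHom (IsLocalRing.ResidueField (padicO p))) with hPk
  have hne : Pk ≠ 0 := (hP.map _).ne_zero
  have hc : ∀ j, Pk.coeff j = 0 ↔ (p : ℤ) ∣ P.coeff j := fun j => by
    rw [hPk, coeff_map, eq_intCast, CharP.intCast_eq_zero_iff _ p]
  have hge : d ≤ Pk.natTrailingDegree := le_natTrailingDegree hne fun m hm => (hc m).2 (hlow m hm)
  rw [← hc d]
  constructor
  · intro h2 h0
    have : Pk.natTrailingDegree = d := by omega
    exact trailingCoeff_nonzero_iff_nonzero.2 hne (by rw [trailingCoeff, this]; exact h0)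
  · intro h0
    have := natTrailingDegree_le_of_ne_zero h0
    omega

end

end Groth.Agent.WeilOrdLib
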