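import Groth.Agent.WeilOrdLib.Basic

/-! # Existence of the symmetric element of a family of Weil numbers -/

set_option autoImplicit false
universe u

open MvPolynomial Polynomial

namespace Groth.Agent.WeilOrdLib

noncomputable section

theorem coeff_mul_T' (f : LaurentPolynomial ℂ) (n j : ℤ) :
    (f * LaurentPolynomial.T n).coeff j = f.coeff (j - n) := by
  classical
  induction f using LaurentPolynomial.induction_on' with
  | add f g hf hg => rw [add_mul]; simp [hf, hg]
  | C_mul_T m a =>
    rw [mul_assoc, ← LaurentPolynomial.T_add, ← LaurentPolynomial.single_eq_C_mul_T, ← LaurentPolynomial.single_eq_C_mul_T,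
      AddMonoidAlgebra.coeff_single, AddMonoidAlgebra.coeff_single, Finsupp.single_apply, Finsupp.single_apply]
    congr 1
    exact propext ⟨fun h => by omega, fun h => by omega⟩

/-- the same embedding with integral coefficients over `ℂ` -/
def toC (q : ℤ) : MvPolynomial (Fin 2) (integralClosure ℤ ℂ) →+* LaurentPolynomial ℂ :=
  eval₂Hom (LaurentPolynomial.C.comp (algebraMap (integralClosure ℤ ℂ) ℂ))
    ![LaurentPolynomial.T 1, LaurentPolynomial.C (q : ℂ) * LaurentPolynomial.T (-1)]

theorem toC_coeff_integral (q : ℤ) (f : MvPolynomial (Fin 2) (integralClosure ℤ ℂ)) (j : ℤ) :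
    ∃ a : ℂ, IsIntegral ℤ a ∧ (toC q f).coeff j = (q : ℂ) ^ (-j).toNat * a := by
  classical
  induction f using MvPolynomial.induction_on' with
  | add f g hf hg =>
    obtain ⟨a, ha, ha'⟩ := hf
    obtain ⟨b, hb, hb'⟩ := hg
    refine ⟨a + b, ha.add hb, ?_⟩
    rw [map_add, AddMonoidAlgebra.coeff_add, Finsupp.add_apply, ha', hb', mul_add]
  | monomial s a =>
    have h1 : toC q (MvPolynomial.monomial s a) =
        LaurentPolynomial.C ((a : ℂ) * (q : ℂ) ^ s 1) * LaurentPolynomial.T ((s 0 : ℤ) - s 1) := by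
      rw [toC, eval₂Hom_monomial, Finsupp.prod_fintype _ _ (fun i => pow_zero _), Fin.prod_univ_two]
      simp only [Matrix.cons_val_zero, Matrix.cons_val_one, mul_pow, LaurentPolynomial.T_pow, ← map_pow,
        RingHom.comp_apply, map_mul]
      rw [show ((s 0 : ℤ) - s 1) = (s 0 : ℤ) * 1 + (s 1 : ℤ) * (-1) by ring, LaurentPolynomial.T_add]
      rw [show ((algebraMap (integralClosure ℤ ℂ) ℂ) a) = (a : ℂ) from rfl]
      ring
    rw [h1, ← LaurentPolynomial.single_eq_C_mul_T, AddMonoidAlgebra.coeff_single, Finsupp.single_apply]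
    split_ifs with hj
    · refine ⟨(a : ℂ) * (q : ℂ) ^ (s 1 - (-j).toNat), a.2.mul ((isIntegral_algebraMap (x := q)).pow _), ?_⟩
      rw [mul_left_comm, ← pow_add]
      congr 2
      omega
    · exact ⟨0, isIntegral_zero, (mul_zero _).symm⟩

/-- divisibility of an integer coefficient -/
theorem exists_of_isIntegral {q : ℤ} (hq : q ≠ 0) {m : ℤ} {k : ℕ} {a : ℂ} (ha : IsIntegral ℤ a)
    (h : (m : ℂ) = (q : ℂ) ^ k * a) : ∃ b : ℤ, m = q ^ k * b := by
  have hr : a = algebraMap ℚ ℂ ((m : ℚ) / (q : ℚ) ^ k) := by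
    rw [map_div₀, map_pow, map_intCast, map_intCast, eq_div_iff (pow_ne_zero _ (Int.cast_ne_zero.2 hq)), mul_comm, h]
  obtain ⟨b, hb⟩ := IsIntegrallyClosed.isIntegral_iff.1
    ((isIntegral_algebraMap_iff (algebraMap ℚ ℂ).injective).1 (hr ▸ ha))
  refine ⟨b, ?_⟩
  rw [eq_intCast, eq_div_iff (pow_ne_zero _ (Int.cast_ne_zero.2 hq))] at hb
  rw [mul_comm]
  exact_mod_cast hb.symm

/-- existence of `h` from a factorization into symmetric pieces -/
theorem exists_h {q : ℤ} (hq : q ≠ 0) (P : Polynomial ℤ) (D : ℕ) (f : MvPolynomial (Fin 2) (integralClosure ℤ ℂ))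
    (hf : toC q f = Polynomial.toLaurent (P.map (Int.castRingHom ℂ)) * LaurentPolynomial.T (-(D : ℤ))) :
    ∃ h : Q q, qF q ^ D * h = Polynomial.aeval (qF q) P := by
  classical
  have hb : ∀ i : ℕ, ∃ b : ℤ, P.coeff i = q ^ (-((i : ℤ) - D)).toNat * b := by
    intro i
    obtain ⟨a, ha, ha'⟩ := toC_coeff_integral q f ((i : ℤ) - D)
    have h1 := congrArg (fun g : LaurentPolynomial ℂ => g.coeff ((i : ℤ) - D)) hf
    simp only [coeff_mul_T', sub_neg_eq_add, sub_add_cancel, LaurentPolynomial.coeff_toLaurent] at h1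
    rw [ha', show ((i : ℤ)) = Nat.castEmbedding i from rfl, Finsupp.mapDomain_apply Nat.castEmbedding.injective] at h1
    refine exists_of_isIntegral hq ha ?_
    refine Eq.trans ?_ h1.symm
    show (P.coeff i : ℂ) = (P.map (Int.castRingHom ℂ)).coeff i
    rw [Polynomial.coeff_map, eq_intCast]
  choose b hb using hb
  refine ⟨∑ i ∈ Finset.range (P.natDegree + 1), b i • eb q ((i : ℤ) - D), ?_⟩
  rw [Polynomial.aeval_eq_sum_range, Finset.mul_sum]
  refine Finset.sum_congr rfl fun i _ => ?_
  apply toL_injective hq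
  rw [mul_smul_comm, map_zsmul, map_zsmul, map_mul, map_pow, map_pow, toL_qF, toL_eb, LaurentPolynomial.T_pow,
    LaurentPolynomial.T_pow, hb i, mul_one, mul_one, mul_left_comm, ← LaurentPolynomial.T_add, zsmul_eq_mul, zsmul_eq_mul,
    show (D : ℤ) + ((i : ℤ) - D) = i by ring, Int.cast_mul, Int.cast_pow, map_pow]
  rw [show (LaurentPolynomial.C (q : ℚ) : LaurentPolynomial ℚ) = (q : LaurentPolynomial ℚ) from map_intCast _ q]
  ring

/-- the product of a multiset of roots on the circle, stable under conjugation, is symmetric -/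
theorem exists_symmetric {q : ℤ} {s : ℝ} (hs : 0 < s) (hsq : ((s : ℂ)) ^ 2 = (q : ℂ)) (hsi : IsIntegral ℤ (s : ℂ))
    (T : Multiset ℂ) (hconj : T.map (starRingEnd ℂ) = T) (hT : ∀ z ∈ T, ‖z‖ = s ∧ IsIntegral ℤ z)
    {D : ℕ} (hD : Multiset.card T = 2 * D) (hbal : T.count ((s : ℂ)) = T.count (-(s : ℂ))) :
    ∃ f, toC q f = Polynomial.toLaurent (T.map fun z => Polynomial.X - Polynomial.C z).prod *
      LaurentPolynomial.T (-(D : ℤ)) := by
  classical
  suffices key : ∀ (D : ℕ) (T : Multiset ℂ), T.map (starRingEnd ℂ) = T → (∀ z ∈ T, ‖z‖ = s ∧ IsIntegral ℤ z) →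
      Multiset.card T = 2 * D → T.count ((s : ℂ)) = T.count (-(s : ℂ)) →
      ∃ f, toC q f = Polynomial.toLaurent (T.map fun z => Polynomial.X - Polynomial.C z).prod *
        LaurentPolynomial.T (-(D : ℤ)) from key D T hconj hT hD hbal
  intro D
  induction D with
  | zero =>
    intro T _ _ hcard _
    obtain rfl : T = 0 := Multiset.card_eq_zero.1 (by omega)
    exact ⟨1, by simp⟩
  | succ D ih =>
    intro T hconj hT hcard hbal
    have hreal : ∀ z ∈ T, starRingEnd ℂ z = z → z = (s : ℂ) ∨ z = -(s : ℂ) := by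
      intro z hz hzc
      obtain ⟨r, rfl⟩ := Complex.conj_eq_iff_real.1 hzc
      have hr : |r| = s := by
        have h1 := (hT _ hz).1
        rwa [Complex.norm_real, Real.norm_eq_abs] at h1
      rcases (abs_eq hs.le).1 hr with h | h
      · exact Or.inl (by rw [h])
      · exact Or.inr (by rw [h, Complex.ofReal_neg])
    have hne : (s : ℂ) ≠ -(s : ℂ) := fun h => by
      have h1 := congrArg Complex.re h
      simp at h1
      linarith
    -- a pair `{a, b}` inside `T`
    obtain ⟨a, b, T', hTe, hconj', hbal', g, hg⟩ : ∃ (a b : ℂ) (T' : Multiset ℂ), T = a ::ₘ b ::ₘ T' ∧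
        T'.map (starRingEnd ℂ) = T' ∧ T'.count ((s : ℂ)) = T'.count (-(s : ℂ)) ∧
        ∃ g, toC q g = Polynomial.toLaurent ((Polynomial.X - Polynomial.C a) * (Polynomial.X - Polynomial.C b)) *
          LaurentPolynomial.T (-1) := by
      have hpair : ∀ t : ℂ, IsIntegral ℤ t → ∀ c : ℂ, c = (q : ℂ) →
          ∃ g, toC q g = Polynomial.toLaurent (Polynomial.X ^ 2 - Polynomial.C t * Polynomial.X + Polynomial.C c) *
            LaurentPolynomial.T (-1) := by
        intro t ht c hc
        refine ⟨MvPolynomial.X 0 + MvPolynomial.X 1 - MvPolynomial.C ⟨t, ht⟩, ?_⟩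
        simp only [toC, map_sub, map_add, coe_eval₂Hom, MvPolynomial.eval₂_X, MvPolynomial.eval₂_C, Matrix.cons_val_zero, Matrix.cons_val_one,
          Polynomial.toLaurent_X_pow, map_mul, Polynomial.toLaurent_C, Polynomial.toLaurent_X, RingHom.comp_apply]
        rw [add_mul, sub_mul, ← LaurentPolynomial.T_add, mul_assoc, ← LaurentPolynomial.T_add, hc]
        norm_num [LaurentPolynomial.T_zero]
        ring
      obtain ⟨z, hz⟩ := Multiset.card_pos_iff_exists_mem.1 (show 0 < Multiset.card T by omega)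
      by_cases hzc : starRingEnd ℂ z = z
      · have hzs := hreal z hz hzc
        have h1 : (s : ℂ) ∈ T ∧ -(s : ℂ) ∈ T := by
          rcases hzs with rfl | rfl
          · exact ⟨hz, Multiset.one_le_count_iff_mem.1 (hbal ▸ Multiset.one_le_count_iff_mem.2 hz)⟩
          · exact ⟨Multiset.one_le_count_iff_mem.1 (hbal.symm ▸ Multiset.one_le_count_iff_mem.2 hz), hz⟩
        have h2 : -(s : ℂ) ∈ T.erase ((s : ℂ)) := (Multiset.mem_erase_of_ne hne.symm).2 h1.2
        refine ⟨(s : ℂ), -(s : ℂ), (T.erase ((s : ℂ))).erase (-(s : ℂ)),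
          by rw [Multiset.cons_erase h2, Multiset.cons_erase h1.1], ?_, ?_, ?_⟩
        · rw [Multiset.map_erase _ (RingHom.injective _), Multiset.map_erase _ (RingHom.injective _), hconj, map_neg,
            Complex.conj_ofReal]
        · rw [Multiset.count_erase_of_ne hne, Multiset.count_erase_self, Multiset.count_erase_self,
            Multiset.count_erase_of_ne hne.symm, hbal]
        · refine ⟨MvPolynomial.X 0 - MvPolynomial.X 1, ?_⟩
          rw [show (Polynomial.X - Polynomial.C (s : ℂ)) * (Polynomial.X - Polynomial.C (-(s : ℂ)))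
            = Polynomial.X ^ 2 - Polynomial.C ((q : ℂ)) by rw [← hsq, map_neg, map_pow]; ring]
          simp only [toC, map_sub, coe_eval₂Hom, MvPolynomial.eval₂_X, Matrix.cons_val_zero, Matrix.cons_val_one,
            Polynomial.toLaurent_X_pow, Polynomial.toLaurent_C]
          rw [sub_mul, ← LaurentPolynomial.T_add]
          norm_num
      · have h2 : starRingEnd ℂ z ∈ T.erase z := (Multiset.mem_erase_of_ne hzc).2 (hconj ▸ Multiset.mem_map_of_mem _ hz)
        have hzne : ∀ w : ℂ, starRingEnd ℂ w = w → z ≠ w ∧ starRingEnd ℂ z ≠ w := fun w hw =>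
          ⟨fun h => hzc (by rw [h, hw]), fun h => hzc (by
            have := congrArg (starRingEnd ℂ) h
            rw [Complex.conj_conj, hw] at this
            rw [this, hw])⟩
        refine ⟨z, starRingEnd ℂ z, (T.erase z).erase (starRingEnd ℂ z),
          by rw [Multiset.cons_erase h2, Multiset.cons_erase hz], ?_, ?_, ?_⟩
        · rw [Multiset.map_erase _ (RingHom.injective _), Multiset.map_erase _ (RingHom.injective _), hconj,
            Complex.conj_conj, Multiset.erase_comm]
        · have e1 := hzne (s : ℂ) (Complex.conj_ofReal s)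
          have e2 := hzne (-(s : ℂ)) (by rw [map_neg, Complex.conj_ofReal])
          rw [Multiset.count_erase_of_ne e1.2.symm, Multiset.count_erase_of_ne e1.1.symm,
            Multiset.count_erase_of_ne e2.2.symm, Multiset.count_erase_of_ne e2.1.symm, hbal]
        · obtain ⟨g, hg⟩ := hpair (z + starRingEnd ℂ z) ((hT z hz).2.add ((hT z hz).2.map (RingHom.toIntAlgHom (starRingEnd ℂ))))
            (z * starRingEnd ℂ z) (by
              rw [Complex.mul_conj', (hT z hz).1, hsq])
          refine ⟨g, hg.trans ?_⟩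
          congr 2
          rw [map_add, map_mul]
          ring
    obtain ⟨f, hf⟩ := ih T' hconj' (fun z hz => hT z (hTe ▸ Multiset.mem_cons_of_mem (Multiset.mem_cons_of_mem hz)))
      (by rw [hTe, Multiset.card_cons, Multiset.card_cons] at hcard; omega) hbal'
    refine ⟨g * f, ?_⟩
    rw [map_mul, hg, hf, hTe, Multiset.map_cons, Multiset.map_cons, Multiset.prod_cons, Multiset.prod_cons, ← mul_assoc (Polynomial.X - Polynomial.C a),
      map_mul Polynomial.toLaurent ((Polynomial.X - Polynomial.C a) * (Polynomial.X - Polynomial.C b)),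
      show (-((D + 1 : ℕ) : ℤ)) = (-1) + -(D : ℤ) by push_cast; ring, LaurentPolynomial.T_add]
    ring

end

end Groth.Agent.WeilOrdLib
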